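import Mathlib
import Cfsg.Prelude.Def_GeometricClasses
import Cfsg.Agent.Lib.Helper99.AschDefs

/-!
# Project ASCHU (S5663, unitary Aschbacher theorem), Part 0 / I: shared vocabulary (helper20)

Definitions only.  `ctr q M` is the conjugate transpose `(M_ji ^ q)`, the adjoint for the frozen
`hermForm n F q` when `|F| = q ^ 2`:  `hermForm (A *ᵥ u) v = hermForm u (ctr q A *ᵥ v)`.
-/

set_option autoImplicit false

namespace Cfsg.Agent.Lib.Helper20.AschU

open Cfsg Cfsg.Geo Cfsg.Agent.Lib.Helper99.Asch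
open scoped MatrixGroups Matrix Kronecker

variable {F : Type*} [Field F]

/-- The conjugate transpose `(M j i) ^ q` of a square matrix over any index type. -/
def ctr (q : ℕ) {ι : Type*} (M : Matrix ι ι F) : Matrix ι ι F := (M.map (fun x => x ^ q))ᵀ

/-- `H` lies in a member of one of the geometric classes of `GU_n(q)` (frozen `InUnitaryClass`). -/
def UGeo {n : ℕ} [Fintype F] (q : ℕ) (H : Subgroup (GL (Fin n) F)) : Prop :=
  ∃ M : Subgroup (GL (Fin n) F), InUnitaryClass n F q M ∧ H ≤ M

/-- Restricted `NAI`: every subgroup of `H · scalars` normalised by `H` is scalar or absolutely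
irreducible. -/
def NAIz {n : ℕ} (H : Subgroup (GL (Fin n) F)) : Prop :=
  ∀ N : Subgroup (GL (Fin n) F), N ≤ H ⊔ scalars (Fin n) F → Nrm H N →
    N ≤ scalars (Fin n) F ∨ ActsAbsolutelyIrreducibly (matrixSet N)

/-- `H` preserves a tensor decomposition `F^n = F^d ⊗ F^e` that is orthonormal for the unitary form:
`P` is a similarity of `hermForm n F q` and `P⁻¹ h P = reindex (a ⊗ₖ b)` for every `h ∈ H`.
(So `hermForm n F q`, transported by `P` and `idx`, is `c ·` the tensor product of the standard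
unitary forms on `F^d` and `F^e`.) -/
def UTensorStd {n : ℕ} (q : ℕ) (H : Subgroup (GL (Fin n) F)) (d e : ℕ) : Prop :=
  ∃ (idx : Fin n ≃ Fin d × Fin e) (P : GL (Fin n) F),
    P ∈ similarityGroup (hermForm n F q) ∧
    ∀ h ∈ H, ∃ (a : GL (Fin d) F) (b : GL (Fin e) F),
      ((P⁻¹ * h * P : GL (Fin n) F) : Matrix (Fin n) (Fin n) F) =
        Matrix.reindex idx.symm idx.symm
          ((a : Matrix (Fin d) (Fin d) F) ⊗ₖ (b : Matrix (Fin e) (Fin e) F))

end Cfsg.Agent.Lib.Helper20.AschU
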