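import Mathlib
import Cfsg.Prelude.Def_GeometricClasses
import Cfsg.Agent.Lib.Helper99.AschDefs
import Cfsg.Agent.Lib.Helper20.AschU.Basic
import Cfsg.Agent.Lib.Helper5.UnitaryGroup

/-!
# ASCHU-[CTR]: basic lemmas on the conjugate transpose `ctr q` and the unitary form
-/

set_option autoImplicit false

namespace Cfsg.Agent.Lib.Helper20.AschU

open Cfsg Cfsg.Geo Cfsg.Agent.Lib.Helper99.Asch Cfsg.Agent.Lib.Helper5
open scoped MatrixGroups Matrix Kronecker

variable {n : ℕ} {F : Type*} [Field F] [Fintype F] {q : ℕ}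

omit [Fintype F] in
theorem ctr_apply {ι : Type*} (M : Matrix ι ι F) (i j : ι) : ctr q M i j = (M j i) ^ q := rfl

theorem ctr_mul (hF : Fintype.card F = q ^ 2) {ι : Type*} [Fintype ι] (M N : Matrix ι ι F) :
    ctr q (M * N) = ctr q N * ctr q M := by
  ext i j
  simp only [ctr_apply, Matrix.mul_apply, sum_pow_q hF, mul_pow]
  exact Finset.sum_congr rfl (fun k _ => mul_comm _ _)

theorem ctr_ctr (hF : Fintype.card F = q ^ 2) {ι : Type*} (M : Matrix ι ι F) : ctr q (ctr q M) = M := by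
  ext i j
  simp only [ctr_apply, pow_q_pow_q hF]

theorem q_ne_zero (hF : Fintype.card F = q ^ 2) : q ≠ 0 := by
  have := two_le_of_card_eq_sq hF
  omega

theorem ctr_one (hF : Fintype.card F = q ^ 2) {ι : Type*} [DecidableEq ι] : ctr q (1 : Matrix ι ι F) = 1 := by
  ext i j
  simp only [ctr_apply, Matrix.one_apply]
  by_cases h : i = j
  · subst h; simp
  · have h' : ¬ j = i := fun e => h e.symm
    simp [h, h', zero_pow (q_ne_zero hF)]

theorem ctr_zero (hF : Fintype.card F = q ^ 2) {ι : Type*} : ctr q (0 : Matrix ι ι F) = 0 := by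
  ext i j
  simp [ctr_apply, zero_pow (q_ne_zero hF)]

theorem ctr_add (hF : Fintype.card F = q ^ 2) {ι : Type*} (M N : Matrix ι ι F) :
    ctr q (M + N) = ctr q M + ctr q N := by
  ext i j
  simp only [ctr_apply, Matrix.add_apply, add_pow_q hF]

theorem ctr_sub (hF : Fintype.card F = q ^ 2) {ι : Type*} (M N : Matrix ι ι F) :
    ctr q (M - N) = ctr q M - ctr q N := by
  ext i j
  simp only [ctr_apply, Matrix.sub_apply, sub_pow_q hF]

theorem ctr_sum (hF : Fintype.card F = q ^ 2) {ι κ : Type*} (s : Finset κ) (M : κ → Matrix ι ι F) :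
    ctr q (∑ k ∈ s, M k) = ∑ k ∈ s, ctr q (M k) := by
  ext i j
  simp only [ctr_apply, Matrix.sum_apply, sum_pow_q hF]

omit [Fintype F] in
theorem ctr_smul {ι : Type*} (c : F) (M : Matrix ι ι F) : ctr q (c • M) = c ^ q • ctr q M := by
  ext i j
  simp only [ctr_apply, Matrix.smul_apply, smul_eq_mul, mul_pow]

omit [Fintype F] in
theorem ctr_kronecker {ι κ : Type*} (A : Matrix ι ι F) (B : Matrix κ κ F) :
    ctr q (A ⊗ₖ B) = ctr q A ⊗ₖ ctr q B := by
  ext ⟨i, k⟩ ⟨j, l⟩
  simp only [ctr_apply, Matrix.kroneckerMap_apply, mul_pow]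

omit [Fintype F] in
theorem ctr_reindex {ι κ : Type*} (e : ι ≃ κ) (M : Matrix ι ι F) :
    ctr q (Matrix.reindex e e M) = Matrix.reindex e e (ctr q M) := by
  ext i j
  simp only [ctr_apply, Matrix.reindex_apply, Matrix.submatrix_apply]

theorem ctr_injective (hF : Fintype.card F = q ^ 2) {ι : Type*} {M N : Matrix ι ι F}
    (h : ctr q M = ctr q N) : M = N := by
  rw [← ctr_ctr hF M, h, ctr_ctr hF]

theorem ctr_pow (hF : Fintype.card F = q ^ 2) {ι : Type*} [Fintype ι] [DecidableEq ι] (M : Matrix ι ι F)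
    (k : ℕ) : ctr q (M ^ k) = (ctr q M) ^ k := by
  induction k with
  | zero => rw [pow_zero, pow_zero, ctr_one hF]
  | succ k ih => rw [pow_succ, ctr_mul hF, ih, pow_succ']

theorem hermForm_mulVec_left (hF : Fintype.card F = q ^ 2) (A : Matrix (Fin n) (Fin n) F) (u v : Fin n → F) :
    hermForm n F q (A *ᵥ u) v = hermForm n F q u (ctr q A *ᵥ v) := by
  simp only [hermForm, Matrix.mulVec, dotProduct, ctr_apply, sum_pow_q hF, mul_pow, pow_q_pow_q hF,
    Finset.sum_mul, Finset.mul_sum]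
  rw [Finset.sum_comm]
  refine Finset.sum_congr rfl (fun j _ => Finset.sum_congr rfl (fun i _ => ?_))
  ring

theorem hermForm_mulVec_right (hF : Fintype.card F = q ^ 2) (A : Matrix (Fin n) (Fin n) F) (u v : Fin n → F) :
    hermForm n F q u (A *ᵥ v) = hermForm n F q (ctr q A *ᵥ u) v := by
  rw [hermForm_mulVec_left hF, ctr_ctr hF]

theorem hermForm_eq_zero_right (hF : Fintype.card F = q ^ 2) (v : Fin n → F)
    (h : ∀ u, hermForm n F q u v = 0) : v = 0 := by
  funext i
  have := h (Pi.single i 1)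
  rw [hermForm_single_left, one_mul] at this
  exact pow_eq_zero_iff (q_ne_zero hF) |>.mp this

theorem hermForm_eq_zero_left (hF : Fintype.card F = q ^ 2) (u : Fin n → F)
    (h : ∀ v, hermForm n F q u v = 0) : u = 0 := by
  apply hermForm_eq_zero_right hF
  intro w
  rw [← hermForm_conj hF, h, zero_pow (q_ne_zero hF)]

theorem hermForm_ext_right (hF : Fintype.card F = q ^ 2) (v w : Fin n → F)
    (h : ∀ u, hermForm n F q u v = hermForm n F q u w) : v = w := by
  rw [← sub_eq_zero]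
  apply hermForm_eq_zero_right hF
  intro u
  rw [hermForm_sub_right hF, h, sub_self]

/-- two matrices agreeing in the second slot of the form are equal -/
theorem matrix_ext_of_hermForm (hF : Fintype.card F = q ^ 2) (A B : Matrix (Fin n) (Fin n) F)
    (h : ∀ u v, hermForm n F q u (A *ᵥ v) = hermForm n F q u (B *ᵥ v)) : A = B := by
  apply Matrix.toLin'.injective
  apply LinearMap.ext
  intro v
  rw [Matrix.toLin'_apply, Matrix.toLin'_apply]
  exact hermForm_ext_right hF _ _ (fun u => h u v)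

theorem mem_GU_iff (hF : Fintype.card F = q ^ 2) (g : GL (Fin n) F) :
    g ∈ GU n F q ↔ ctr q (g : Matrix (Fin n) (Fin n) F) * (g : Matrix (Fin n) (Fin n) F) = 1 := by
  constructor
  · intro hg
    apply matrix_ext_of_hermForm hF
    intro u v
    rw [← Matrix.mulVec_mulVec, ← hermForm_mulVec_left hF, Matrix.one_mulVec]
    exact hg u v
  · intro hg u v
    show hermForm n F q ((g : Matrix (Fin n) (Fin n) F) *ᵥ u) ((g : Matrix (Fin n) (Fin n) F) *ᵥ v) = _
    rw [hermForm_mulVec_left hF, Matrix.mulVec_mulVec, hg, Matrix.one_mulVec]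

theorem mem_similarityGroup_iff (hF : Fintype.card F = q ^ 2) (g : GL (Fin n) F) :
    g ∈ similarityGroup (hermForm n F q) ↔
      ∃ c : F, c ≠ 0 ∧ ctr q (g : Matrix (Fin n) (Fin n) F) * (g : Matrix (Fin n) (Fin n) F) = c • 1 := by
  constructor
  · rintro ⟨c, hc⟩
    refine ⟨(c : F) ^ q, pow_ne_zero _ c.ne_zero, ?_⟩
    apply matrix_ext_of_hermForm hF
    intro u v
    rw [← Matrix.mulVec_mulVec, ← hermForm_mulVec_left hF, hc, Matrix.smul_mulVec, Matrix.one_mulVec,
      hermForm_smul_right, pow_q_pow_q hF]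
  · rintro ⟨c, hc0, hc⟩
    refine ⟨Units.mk0 (c ^ q) (pow_ne_zero _ hc0), fun u v => ?_⟩
    rw [hermForm_mulVec_left hF, Matrix.mulVec_mulVec, hc, Matrix.smul_mulVec, Matrix.one_mulVec,
      hermForm_smul_right]
    rfl

/-- the multiplier of a similarity lies in the fixed field -/
theorem multiplier_pow_q (hF : Fintype.card F = q ^ 2) (hn : 0 < n) (g : Matrix (Fin n) (Fin n) F) (c : F)
    (hc : ctr q g * g = c • (1 : Matrix (Fin n) (Fin n) F)) : c ^ q = c := by
  have h1 := congrArg (ctr q) hc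
  rw [ctr_mul hF, ctr_ctr hF, hc, ctr_smul, ctr_one hF] at h1
  have h2 := congrFun (congrFun h1 ⟨0, hn⟩) ⟨0, hn⟩
  simpa using h2.symm

omit [Fintype F] in
theorem GU_le_similarityGroup : GU n F q ≤ similarityGroup (hermForm n F q) := by
  intro g hg
  exact ⟨1, fun u v => by rw [Units.val_one, one_mul]; exact hg u v⟩

theorem scalars_le_similarityGroup (hF : Fintype.card F = q ^ 2) :
    scalars (Fin n) F ≤ similarityGroup (hermForm n F q) := by
  intro g hg
  rw [mem_scalars_iff] at hg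
  obtain ⟨c, hc⟩ := hg
  rw [mem_similarityGroup_iff hF]
  refine ⟨(c : F) ^ q * c, mul_ne_zero (pow_ne_zero _ c.ne_zero) c.ne_zero, ?_⟩
  rw [hc, ctr_smul, ctr_one hF, Matrix.smul_mul, Matrix.mul_smul, Matrix.one_mul, smul_smul]

/-- for `h ∈ GU`, conjugation by `h` commutes with `ctr`. -/
theorem ctr_conj_of_mem_GU (hF : Fintype.card F = q ^ 2) (h : GL (Fin n) F) (hh : h ∈ GU n F q)
    (x : Matrix (Fin n) (Fin n) F) :
    ctr q ((h : Matrix (Fin n) (Fin n) F) * x * ((h⁻¹ : GL (Fin n) F) : Matrix (Fin n) (Fin n) F)) =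
      (h : Matrix (Fin n) (Fin n) F) * ctr q x * ((h⁻¹ : GL (Fin n) F) : Matrix (Fin n) (Fin n) F) := by
  have h1 : ctr q (h : Matrix (Fin n) (Fin n) F) = ((h⁻¹ : GL (Fin n) F) : Matrix (Fin n) (Fin n) F) := by
    have := (mem_GU_iff hF h).mp hh
    calc ctr q (h : Matrix (Fin n) (Fin n) F)
        = ctr q (h : Matrix (Fin n) (Fin n) F) * ((h : Matrix (Fin n) (Fin n) F) *
            ((h⁻¹ : GL (Fin n) F) : Matrix (Fin n) (Fin n) F)) := by
          rw [← Units.val_mul, mul_inv_cancel, Units.val_one, Matrix.mul_one]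
      _ = ((h⁻¹ : GL (Fin n) F) : Matrix (Fin n) (Fin n) F) := by
          rw [← Matrix.mul_assoc, this, Matrix.one_mul]
  have h2 : ctr q ((h⁻¹ : GL (Fin n) F) : Matrix (Fin n) (Fin n) F) = (h : Matrix (Fin n) (Fin n) F) := by
    rw [← h1, ctr_ctr hF]
  rw [ctr_mul hF, ctr_mul hF, h1, h2, Matrix.mul_assoc]

end Cfsg.Agent.Lib.Helper20.AschU
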