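import Mathlib
import Cfsg.Prelude.Def_GeometricClasses
import Cfsg.Agent.Lib.Helper99.AschDefs
import Cfsg.Agent.Lib.Helper80.AschIso
import Cfsg.Agent.Lib.Helper20.AschU.Basic

/-!
# ASCHU-[ISOT]: if the commutant centre of `N` is scalar then `V|N` is isotypic
-/

set_option autoImplicit false

namespace Cfsg.Agent.Lib.Helper20.AschUIsot

open scoped MatrixGroups Matrix

section proj
variable {F V : Type*} [Field F] [AddCommGroup V] [Module F V]

theorem proj_left {p q : Submodule F V} (hc : IsCompl p q) {v : V} (hv : v ∈ p) :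
    p.projection q hc v = v := Submodule.projection_apply_left hc ⟨v, hv⟩

theorem proj_mem {p q : Submodule F V} (hc : IsCompl p q) (v : V) : p.projection q hc v ∈ p := by
  rw [Submodule.projection_apply]
  exact Submodule.coe_mem _

theorem proj_right {p q : Submodule F V} (hc : IsCompl p q) {w : V} (hw : w ∈ q) :
    p.projection q hc w = 0 := by
  rw [Submodule.projection_apply]
  have := Submodule.projectionOnto_apply_right hc ⟨w, hw⟩
  simp only at this
  rw [this]
  rfl

theorem sub_proj_mem {p q : Submodule F V} (hc : IsCompl p q) (v : V) :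
    v - p.projection q hc v ∈ q := by
  rw [← Submodule.projectionOnto_apply_eq_zero_iff hc]
  have h1 : p.projection q hc (v - p.projection q hc v) = 0 := by
    rw [map_sub, proj_left hc (proj_mem hc v), sub_self]
  rw [Submodule.projection_apply] at h1
  exact_mod_cast h1

theorem mem_right_of_proj_eq_zero {p q : Submodule F V} (hc : IsCompl p q) {v : V}
    (h : p.projection q hc v = 0) : v ∈ q := by
  have := sub_proj_mem hc v
  rwa [h, sub_zero] at this

theorem proj_comm {p q : Submodule F V} (hc : IsCompl p q) (g : V →ₗ[F] V)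
    (hp : ∀ v ∈ p, g v ∈ p) (hq : ∀ w ∈ q, g w ∈ q) (v : V) :
    g (p.projection q hc v) = p.projection q hc (g v) := by
  have h1 : v = p.projection q hc v + (v - p.projection q hc v) := by abel
  conv_rhs => rw [h1, map_add, map_add]
  rw [proj_left hc (hp _ (proj_mem hc v)), proj_right hc (hq _ (sub_proj_mem hc v)), add_zero]

end proj

end Cfsg.Agent.Lib.Helper20.AschUIsot

namespace Cfsg.Agent.Lib.Helper20.AschU

open Cfsg Cfsg.Geo Cfsg.Agent.Lib.Helper99.Asch Cfsg.Agent.Lib.Helper20.AschUIsot
open scoped MatrixGroups Matrix Kronecker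

variable {n : ℕ} {F : Type*} [Field F] [Fintype F]

/-- ASCHU-[ISOT]. -/
theorem isotypic_of_commutantCenter_scalar (H N : Subgroup (GL (Fin n) F))
    (hirr : ActsIrreducibly (matrixSet H)) (hnrm : Nrm H N)
    (hsc : ∀ x ∈ commutantCenter N, ∃ c : F, x = c • (1 : Matrix (Fin n) (Fin n) F)) :
    IsIsotypic (endAlg N) (Fin n → F) := by
  classical
  rcases isotypic_or_decomposition H N hirr hnrm with h | ⟨t, D, ht, hne, hind, htop, -, -, hfix⟩
  · exact h
  exfalso
  set i0 : Fin t := ⟨0, by omega⟩ with hi0
  set i1 : Fin t := ⟨1, by omega⟩ with hi1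
  have h01 : i1 ≠ i0 := by
    intro h
    have := congrArg Fin.val h
    simp [hi0, hi1] at this
  set W : Submodule F (Fin n → F) := ⨆ (j) (_ : j ≠ i0), D j with hW
  have hdisj : Disjoint (D i0) W := hind i0
  have hsup : D i0 ⊔ W = ⊤ := by
    rw [eq_top_iff, ← htop]
    apply iSup_le
    intro j
    by_cases hj : j = i0
    · rw [hj]; exact le_sup_left
    · exact le_trans (le_iSup₂ (f := fun (j : Fin t) (_ : j ≠ i0) => D j) j hj) le_sup_right
  have hc : IsCompl (D i0) W := ⟨hdisj, codisjoint_iff.mpr hsup⟩
  set e : (Fin n → F) →ₗ[F] (Fin n → F) := (D i0).projection W hc with he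
  set E : Matrix (Fin n) (Fin n) F := LinearMap.toMatrix' e with hE
  have hEe : Matrix.toLin' E = e := Matrix.toLin'_toMatrix' e
  -- a matrix whose linear map preserves `D i0` and `W` commutes with `E`
  have hcommE : ∀ y : Matrix (Fin n) (Fin n) F,
      (∀ v ∈ D i0, Matrix.toLin' y v ∈ D i0) → (∀ w ∈ W, Matrix.toLin' y w ∈ W) → y * E = E * y := by
    intro y h1 h2
    apply Matrix.toLin'.injective
    rw [Matrix.toLin'_mul, Matrix.toLin'_mul, hEe]
    apply LinearMap.ext
    intro v
    exact proj_comm hc (Matrix.toLin' y) h1 h2 v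
  -- elements of GL fixing every `D i` preserve `D i0` and `W`
  have hpres : ∀ g : GL (Fin n) F,
      (∀ i, (D i).map (Matrix.toLin' (g : Matrix (Fin n) (Fin n) F)) = D i) →
      (∀ v ∈ D i0, Matrix.toLin' (g : Matrix (Fin n) (Fin n) F) v ∈ D i0) ∧
      (∀ w ∈ W, Matrix.toLin' (g : Matrix (Fin n) (Fin n) F) w ∈ W) := by
    intro g hg
    constructor
    · intro v hv
      rw [← hg i0]
      exact Submodule.mem_map_of_mem hv
    · intro w hw
      have : W.map (Matrix.toLin' (g : Matrix (Fin n) (Fin n) F)) = W := by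
        rw [hW, Submodule.map_iSup]
        congr 1
        funext j
        rw [Submodule.map_iSup]
        congr 1
        funext _
        exact hg j
      rw [← this]
      exact Submodule.mem_map_of_mem hw
  -- `E` commutes with `N`
  have hEN : ∀ x ∈ N, (x : Matrix (Fin n) (Fin n) F) * E = E * (x : Matrix (Fin n) (Fin n) F) := by
    intro x hx
    obtain ⟨h1, h2⟩ := hpres x (hfix x (Or.inl hx))
    exact hcommE _ h1 h2
  have hEcomm : E ∈ commutant N := by
    rw [commutant, Subalgebra.mem_centralizer_iff]
    rintro s ⟨x, hx, rfl⟩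
    exact hEN x hx
  have hEE : E * E = E := by
    apply Matrix.toLin'.injective
    rw [Matrix.toLin'_mul, hEe]
    apply LinearMap.ext
    intro v
    exact proj_left hc (proj_mem hc v)
  -- a nilpotent perturbation of the identity is a unit commuting with `N`
  have hunit : ∀ A : Matrix (Fin n) (Fin n) F, A * A = 0 →
      (∀ x ∈ N, (x : Matrix (Fin n) (Fin n) F) * A = A * (x : Matrix (Fin n) (Fin n) F)) →
      ∀ i, (D i).map (Matrix.toLin' (1 + A)) = D i := by
    intro A hA hAN i
    have h1 : (1 + A) * (1 - A) = 1 := by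
      rw [mul_sub, add_mul, add_mul, one_mul, one_mul, mul_one, hA]; abel
    have h2 : (1 - A) * (1 + A) = 1 := by
      rw [mul_add, sub_mul, sub_mul, one_mul, one_mul, mul_one, hA]; abel
    set g : GL (Fin n) F := ⟨1 + A, 1 - A, h1, h2⟩ with hg
    have := hfix g (Or.inr (fun x hx => by
      apply Units.ext
      rw [Units.val_mul, Units.val_mul]
      show (1 + A) * (x : Matrix (Fin n) (Fin n) F) = (x : Matrix (Fin n) (Fin n) F) * (1 + A)
      rw [add_mul, mul_add, one_mul, mul_one, hAN x hx])) i
    exact this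
  -- every element of the commutant preserves `D i0` and `W`
  have hEcent : ∀ y ∈ commutant N, y * E = E * y := by
    intro y hy
    rw [commutant, Subalgebra.mem_centralizer_iff] at hy
    have hyN : ∀ x ∈ N, (x : Matrix (Fin n) (Fin n) F) * y = y * (x : Matrix (Fin n) (Fin n) F) :=
      fun x hx => hy _ ⟨x, hx, rfl⟩
    have hEF : E * (1 - E) = 0 := by rw [mul_sub, mul_one, hEE, sub_self]
    have hFE : (1 - E) * E = 0 := by rw [sub_mul, one_mul, hEE, sub_self]
    apply hcommE
    · -- `y (D i0) ≤ D i0`
      intro v hv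
      set A : Matrix (Fin n) (Fin n) F := (1 - E) * y * E with hAd
      have hAA : A * A = 0 := by
        rw [hAd]
        calc (1 - E) * y * E * ((1 - E) * y * E) = (1 - E) * y * (E * (1 - E)) * y * E := by
              simp only [Matrix.mul_assoc]
          _ = 0 := by rw [hEF]; simp
      have hAN : ∀ x ∈ N, (x : Matrix (Fin n) (Fin n) F) * A = A * (x : Matrix (Fin n) (Fin n) F) := by
        intro x hx
        have hx1 : (x : Matrix (Fin n) (Fin n) F) * (1 - E) = (1 - E) * (x : Matrix (Fin n) (Fin n) F) := by
          rw [mul_sub, sub_mul, mul_one, one_mul, hEN x hx]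
        rw [hAd]
        calc (x : Matrix (Fin n) (Fin n) F) * ((1 - E) * y * E)
            = ((x : Matrix (Fin n) (Fin n) F) * (1 - E)) * y * E := by simp only [Matrix.mul_assoc]
          _ = (1 - E) * ((x : Matrix (Fin n) (Fin n) F) * y) * E := by rw [hx1]; simp only [Matrix.mul_assoc]
          _ = (1 - E) * y * ((x : Matrix (Fin n) (Fin n) F) * E) := by rw [hyN x hx]; simp only [Matrix.mul_assoc]
          _ = (1 - E) * y * E * (x : Matrix (Fin n) (Fin n) F) := by rw [hEN x hx]; simp only [Matrix.mul_assoc]
      have hmap := hunit A hAA hAN i0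
      have hmem : Matrix.toLin' (1 + A) v ∈ D i0 := by
        rw [← hmap]; exact Submodule.mem_map_of_mem hv
      -- `(1 + A) v = v + (1 - E) (y v)`
      have hev : e v = v := proj_left hc hv
      have hAv : Matrix.toLin' A v = Matrix.toLin' y v - e (Matrix.toLin' y v) := by
        rw [hAd, Matrix.toLin'_mul, Matrix.toLin'_mul, LinearMap.comp_apply, LinearMap.comp_apply, hEe, hev,
          map_sub, LinearMap.sub_apply, hEe, Matrix.toLin'_one, LinearMap.id_apply]
      rw [map_add, LinearMap.add_apply, Matrix.toLin'_one, LinearMap.id_apply, hAv] at hmem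
      have h3 : Matrix.toLin' y v - e (Matrix.toLin' y v) ∈ D i0 := by
        have := (D i0).sub_mem hmem hv
        simpa using this
      have h4 : Matrix.toLin' y v - e (Matrix.toLin' y v) ∈ W := sub_proj_mem hc _
      have h5 : Matrix.toLin' y v - e (Matrix.toLin' y v) = 0 := by
        have : Matrix.toLin' y v - e (Matrix.toLin' y v) ∈ D i0 ⊓ W := ⟨h3, h4⟩
        rw [hdisj.eq_bot] at this
        exact this
      rw [sub_eq_zero] at h5
      rw [h5]
      exact proj_mem hc _
    · -- `y W ≤ W`
      intro w hw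
      set A : Matrix (Fin n) (Fin n) F := E * y * (1 - E) with hAd
      have hAA : A * A = 0 := by
        rw [hAd]
        calc E * y * (1 - E) * (E * y * (1 - E)) = E * y * ((1 - E) * E) * y * (1 - E) := by
              simp only [Matrix.mul_assoc]
          _ = 0 := by rw [hFE]; simp
      have hAN : ∀ x ∈ N, (x : Matrix (Fin n) (Fin n) F) * A = A * (x : Matrix (Fin n) (Fin n) F) := by
        intro x hx
        have hx1 : (x : Matrix (Fin n) (Fin n) F) * (1 - E) = (1 - E) * (x : Matrix (Fin n) (Fin n) F) := by
          rw [mul_sub, sub_mul, mul_one, one_mul, hEN x hx]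
        rw [hAd]
        calc (x : Matrix (Fin n) (Fin n) F) * (E * y * (1 - E))
            = ((x : Matrix (Fin n) (Fin n) F) * E) * y * (1 - E) := by simp only [Matrix.mul_assoc]
          _ = E * ((x : Matrix (Fin n) (Fin n) F) * y) * (1 - E) := by rw [hEN x hx]; simp only [Matrix.mul_assoc]
          _ = E * y * ((x : Matrix (Fin n) (Fin n) F) * (1 - E)) := by rw [hyN x hx]; simp only [Matrix.mul_assoc]
          _ = E * y * (1 - E) * (x : Matrix (Fin n) (Fin n) F) := by rw [hx1]; simp only [Matrix.mul_assoc]
      have hmapW : W.map (Matrix.toLin' (1 + A)) = W := by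
        rw [hW, Submodule.map_iSup]
        congr 1
        funext j
        rw [Submodule.map_iSup]
        congr 1
        funext _
        exact hunit A hAA hAN j
      have hmem : Matrix.toLin' (1 + A) w ∈ W := by
        rw [← hmapW]; exact Submodule.mem_map_of_mem hw
      have hew : e w = 0 := proj_right hc hw
      have hAw : Matrix.toLin' A w = e (Matrix.toLin' y w) := by
        rw [hAd, Matrix.toLin'_mul, Matrix.toLin'_mul, LinearMap.comp_apply, LinearMap.comp_apply, map_sub,
          LinearMap.sub_apply, hEe, hew, Matrix.toLin'_one, LinearMap.id_apply, sub_zero]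
      rw [map_add, LinearMap.add_apply, Matrix.toLin'_one, LinearMap.id_apply, hAw] at hmem
      have h3 : e (Matrix.toLin' y w) ∈ W := by
        have := W.sub_mem hmem hw
        simpa using this
      have h4 : e (Matrix.toLin' y w) ∈ D i0 := proj_mem hc _
      have h5 : e (Matrix.toLin' y w) = 0 := by
        have : e (Matrix.toLin' y w) ∈ D i0 ⊓ W := ⟨h4, h3⟩
        rw [hdisj.eq_bot] at this
        exact this
      exact mem_right_of_proj_eq_zero hc h5
  have hEcc : E ∈ commutantCenter N := by
    refine ⟨hEcomm, ?_⟩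
    show E ∈ Subalgebra.centralizer F (commutant N : Set (Matrix (Fin n) (Fin n) F))
    rw [Subalgebra.mem_centralizer_iff]
    exact hEcent
  obtain ⟨c, hcE⟩ := hsc E hEcc
  have heq : ∀ v, e v = c • v := by
    intro v
    rw [← hEe, hcE, Matrix.toLin'_apply, Matrix.smul_mulVec, Matrix.one_mulVec]
  -- contradiction
  obtain ⟨v, hv, hv0⟩ := (Submodule.ne_bot_iff _).mp (hne i0)
  obtain ⟨w, hw, hw0⟩ := (Submodule.ne_bot_iff _).mp (hne i1)
  have hwW : w ∈ W := (le_iSup₂ (f := fun (j : Fin t) (_ : j ≠ i0) => D j) i1 h01) hw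
  have h1 : c • v = v := by rw [← heq]; exact proj_left hc hv
  have h2 : c • w = 0 := by rw [← heq]; exact proj_right hc hwW
  have hc1 : c = 1 := by
    by_contra hne1
    have : (c - 1) • v = 0 := by rw [sub_smul, one_smul, h1, sub_self]
    rcases smul_eq_zero.mp this with h | h
    · exact hne1 (sub_eq_zero.mp h)
    · exact hv0 h
  rw [hc1, one_smul] at h2
  exact hw0 h2

end Cfsg.Agent.Lib.Helper20.AschU
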