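import Mathlib
import Cfsg.Prelude.Def_GeometricClasses
import Cfsg.Agent.Lib.Helper99.AschDefs
import Cfsg.Agent.Lib.Helper20.AschU.Basic
import Cfsg.Agent.Lib.Helper20.AschU.Ctr

/-!
# ASCHU-[KSTAR]: the commutant centre of a group of similarities is closed under `ctr q`
-/

set_option autoImplicit false

namespace Cfsg.Agent.Lib.Helper20.AschU

open Cfsg Cfsg.Geo Cfsg.Agent.Lib.Helper99.Asch
open scoped MatrixGroups Matrix Kronecker

variable {n : ℕ} {F : Type*} [Field F] [Fintype F] {q : ℕ}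

theorem commutant_ctr_mem (hF : Fintype.card F = q ^ 2) (N : Subgroup (GL (Fin n) F))
    (hN : N ≤ similarityGroup (hermForm n F q)) :
    ∀ x ∈ commutant N, ctr q x ∈ commutant N := by
  intro x hx
  rw [commutant, Subalgebra.mem_centralizer_iff] at hx ⊢
  rintro s ⟨g, hg, rfl⟩
  obtain ⟨c, hc0, hc⟩ := (mem_similarityGroup_iff hF g).mp (hN hg)
  have hgi : (g : Matrix (Fin n) (Fin n) F) * ((g⁻¹ : GL (Fin n) F) : Matrix (Fin n) (Fin n) F) = 1 := by
    rw [← Units.val_mul, mul_inv_cancel, Units.val_one]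
  have hgi' : ((g⁻¹ : GL (Fin n) F) : Matrix (Fin n) (Fin n) F) * (g : Matrix (Fin n) (Fin n) F) = 1 := by
    rw [← Units.val_mul, inv_mul_cancel, Units.val_one]
  have h1 : ctr q (g : Matrix (Fin n) (Fin n) F) =
      c • ((g⁻¹ : GL (Fin n) F) : Matrix (Fin n) (Fin n) F) := by
    calc ctr q (g : Matrix (Fin n) (Fin n) F)
        = ctr q (g : Matrix (Fin n) (Fin n) F) * ((g : Matrix (Fin n) (Fin n) F) *
            ((g⁻¹ : GL (Fin n) F) : Matrix (Fin n) (Fin n) F)) := by rw [hgi, Matrix.mul_one]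
      _ = c • ((g⁻¹ : GL (Fin n) F) : Matrix (Fin n) (Fin n) F) := by
          rw [← Matrix.mul_assoc, hc, Matrix.smul_mul, Matrix.one_mul]
  have h2 := congrArg (ctr q) (hx (g : Matrix (Fin n) (Fin n) F) ⟨g, hg, rfl⟩)
  rw [ctr_mul hF, ctr_mul hF, h1, Matrix.mul_smul, Matrix.smul_mul] at h2
  have h3 : ctr q x * ((g⁻¹ : GL (Fin n) F) : Matrix (Fin n) (Fin n) F) =
      ((g⁻¹ : GL (Fin n) F) : Matrix (Fin n) (Fin n) F) * ctr q x := by
    have := congrArg (fun M => c⁻¹ • M) h2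
    simpa [smul_smul, inv_mul_cancel₀ hc0] using this
  calc (g : Matrix (Fin n) (Fin n) F) * ctr q x
      = (g : Matrix (Fin n) (Fin n) F) * (ctr q x * ((g⁻¹ : GL (Fin n) F) : Matrix (Fin n) (Fin n) F)) *
          (g : Matrix (Fin n) (Fin n) F) := by
        rw [Matrix.mul_assoc, Matrix.mul_assoc, hgi', Matrix.mul_one]
    _ = ctr q x * (g : Matrix (Fin n) (Fin n) F) := by
        rw [h3, ← Matrix.mul_assoc, hgi, Matrix.one_mul]

/-- ASCHU-[KSTAR]. -/
theorem commutantCenter_ctr_mem (hF : Fintype.card F = q ^ 2) (N : Subgroup (GL (Fin n) F))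
    (hN : N ≤ similarityGroup (hermForm n F q)) :
    ∀ x ∈ commutantCenter N, ctr q x ∈ commutantCenter N := by
  intro x hx
  refine ⟨commutant_ctr_mem hF N hN x hx.1, ?_⟩
  have hx2 : x ∈ Subalgebra.centralizer F (commutant N : Set (Matrix (Fin n) (Fin n) F)) := hx.2
  show ctr q x ∈ Subalgebra.centralizer F (commutant N : Set (Matrix (Fin n) (Fin n) F))
  rw [Subalgebra.mem_centralizer_iff] at hx2 ⊢
  intro y hy
  have hy' := commutant_ctr_mem hF N hN y hy
  have := congrArg (ctr q) (hx2 (ctr q y) hy')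
  rw [ctr_mul hF, ctr_mul hF, ctr_ctr hF] at this
  exact this.symm

end Cfsg.Agent.Lib.Helper20.AschU
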