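import Mathlib
import Cfsg.Prelude.Def_GeometricClasses
import Cfsg.Agent.Lib.Helper99.AschDefs
import Cfsg.Agent.Lib.Helper47.AschKronNormFinal
import Cfsg.Agent.Lib.Helper37.GUSimilar
import Cfsg.Agent.Lib.Helper20.AschU.Basic
import Cfsg.Agent.Lib.Helper20.AschU.Ctr
import Cfsg.Agent.Lib.Helper76.AschUGram
import Cfsg.Agent.Lib.Helper11.AschUKronEq

/-!
# ASCHU-[TENS]: tensor normal form of a normal subgroup of similarities ⇒ orthonormal tensor decomposition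
-/

set_option autoImplicit false

namespace Cfsg.Agent.Lib.Helper20.AschUTens

open Cfsg Cfsg.Geo Cfsg.Agent.Lib.Helper99.Asch Cfsg.Agent.Lib.Helper20.AschU
open Cfsg.Agent.Lib.Helper5 Cfsg.Agent.Lib.Helper37.GUConj Cfsg.Agent.Lib.Helper37.GUSimilar
open scoped MatrixGroups Matrix Kronecker

variable {n : ℕ} {F : Type*} [Field F] [Fintype F] {q : ℕ}

/-- Hilbert 90 for `F`, `|F| = q²`. -/
theorem exists_hilbert (hF : Fintype.card F = q ^ 2) (c : F) (hc : c * c ^ q = 1) :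
    ∃ t : F, t ≠ 0 ∧ t = c * t ^ q := by
  obtain ⟨a, ha⟩ := exists_sig_ne hF
  have hu : IsUnit (a - conjHom hF a) := by
    rw [isUnit_iff_ne_zero, sub_ne_zero]
    exact fun h => ha h.symm
  obtain ⟨r, hr, hr'⟩ := hilbert90 (conjHom hF) (conjHom_conjHom hF) a hu c hc
  exact ⟨r, hr.ne_zero, hr'⟩

/-- The key conjugation computation, in an arbitrary matrix ring with an anti-involution-like `ctr`. -/
theorem semi_of_sim (hF : Fintype.card F = q ^ 2) {κ : Type*} [Fintype κ] [DecidableEq κ]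
    (b c X A : Matrix κ κ F) (k : F) (hbc : b * c = 1) (hcb : c * b = 1)
    (hX : b * X * c = A) (hsim : ctr q X * X = k • 1) :
    ctr q A * (ctr q c * c) * A = k • (ctr q c * c) := by
  have hXe : X = c * A * b := by
    rw [← hX]
    calc X = (c * b) * X * (c * b) := by rw [hcb, Matrix.one_mul, Matrix.mul_one]
      _ = c * (b * X * c) * b := by simp only [Matrix.mul_assoc]
  have h1 : ctr q c * ctr q b = 1 := by rw [← ctr_mul hF, hbc, ctr_one hF]
  have h2 : ctr q X = ctr q b * ctr q A * ctr q c := by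
    rw [hXe, ctr_mul hF, ctr_mul hF, Matrix.mul_assoc]
  rw [h2, hXe] at hsim
  have h3 : ctr q c * (ctr q b * ctr q A * ctr q c * (c * A * b)) * c = ctr q A * (ctr q c * c) * A := by
    calc ctr q c * (ctr q b * ctr q A * ctr q c * (c * A * b)) * c
        = (ctr q c * ctr q b) * ctr q A * (ctr q c * c) * A * (b * c) := by
          simp only [Matrix.mul_assoc]
      _ = ctr q A * (ctr q c * c) * A := by rw [h1, hbc, Matrix.one_mul, Matrix.mul_one]
  rw [← h3, hsim, Matrix.mul_smul, Matrix.smul_mul, Matrix.mul_one]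

end Cfsg.Agent.Lib.Helper20.AschUTens

namespace Cfsg.Agent.Lib.Helper20.AschU

open Cfsg Cfsg.Geo Cfsg.Agent.Lib.Helper99.Asch Cfsg.Agent.Lib.Helper20.AschUTens
open Cfsg.Agent.Lib.Helper5 Cfsg.Agent.Lib.Helper37.GUConj Cfsg.Agent.Lib.Helper37.GUSimilar
open scoped MatrixGroups Matrix Kronecker

variable {n : ℕ} {F : Type*} [Field F] [Fintype F] {q : ℕ}

/-- ASCHU-[TENS]. -/
theorem utensorStd_of_tensorNF (hF : Fintype.card F = q ^ 2) (hn : 0 < n) (H N : Subgroup (GL (Fin n) F))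
    (hH : H ≤ GU n F q) (hN : N ≤ similarityGroup (hermForm n F q)) (hnrm : Nrm H N)
    (d e : ℕ) (idx : Fin n ≃ Fin d × Fin e) (B : GL (Fin n) F) (hNF : TensorNF N d e idx B) :
    UTensorStd q H d e := by
  classical
  have hde : n = d * e := by simpa using Fintype.card_congr idx
  have hd : 0 < d := Nat.pos_of_ne_zero (fun h => by rw [h, zero_mul] at hde; omega)
  have he : 0 < e := Nat.pos_of_ne_zero (fun h => by rw [h, mul_zero] at hde; omega)
  have : Nonempty (Fin d) := ⟨⟨0, hd⟩⟩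
  have : Nonempty (Fin e) := ⟨⟨0, he⟩⟩
  obtain ⟨h1, h2⟩ := id hNF
  set ρ := Matrix.reindexAlgEquiv F F idx with hρ
  set Bm : Matrix (Fin n) (Fin n) F := (B : Matrix (Fin n) (Fin n) F) with hBm
  set C : Matrix (Fin n) (Fin n) F := ((B⁻¹ : GL (Fin n) F) : Matrix (Fin n) (Fin n) F) with hC
  have hBC : Bm * C = 1 := by rw [hBm, hC, ← Units.val_mul, mul_inv_cancel, Units.val_one]
  have hCB : C * Bm = 1 := by rw [hBm, hC, ← Units.val_mul, inv_mul_cancel, Units.val_one]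
  set b' := ρ Bm with hb'
  set c' := ρ C with hc'
  have hbc' : b' * c' = 1 := by rw [hb', hc', ← map_mul, hBC, map_one]
  have hcb' : c' * b' = 1 := by rw [hb', hc', ← map_mul, hCB, map_one]
  set G : Matrix (Fin d × Fin e) (Fin d × Fin e) F := ctr q c' * c' with hG
  have hGherm : ctr q G = G := by rw [hG, ctr_mul hF, ctr_ctr hF]
  have hρctr : ∀ M : Matrix (Fin n) (Fin n) F, ρ (ctr q M) = ctr q (ρ M) := by
    intro M
    exact (ctr_reindex idx M).symm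
  -- semi-invariance of `G`
  have hsemi : ∀ x ∈ N, ∀ A : Matrix (Fin d × Fin e) (Fin d × Fin e) F,
      ((B * x * B⁻¹ : GL (Fin n) F) : Matrix (Fin n) (Fin n) F) = ρ.symm A →
      ∃ k : F, k ≠ 0 ∧ ctr q A * G * A = k • G := by
    intro x hx A hA
    obtain ⟨k, hk0, hk⟩ := (mem_similarityGroup_iff hF x).mp (hN hx)
    refine ⟨k, hk0, ?_⟩
    have hX : b' * ρ (x : Matrix (Fin n) (Fin n) F) * c' = A := by
      rw [hb', hc', ← map_mul, ← map_mul]
      have : Bm * (x : Matrix (Fin n) (Fin n) F) * C = ρ.symm A := by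
        rw [← hA, hBm, hC, Units.val_mul, Units.val_mul]
      rw [this, AlgEquiv.apply_symm_apply]
    have hsim : ctr q (ρ (x : Matrix (Fin n) (Fin n) F)) * ρ (x : Matrix (Fin n) (Fin n) F) = k • 1 := by
      rw [← hρctr, ← map_mul, hk, map_smul, map_one]
    exact semi_of_sim hF b' c' _ A k hbc' hcb' hX hsim
  -- the set W of TensorNF
  set W : Set (Matrix (Fin d) (Fin d) F) := {a | ∃ x ∈ N,
      ((B * x * B⁻¹ : GL (Fin n) F) : Matrix (Fin n) (Fin n) F) =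
        Matrix.reindex idx.symm idx.symm (a ⊗ₖ (1 : Matrix (Fin e) (Fin e) F))} with hW
  have hWu : ∀ a ∈ W, IsUnit a.det := by
    rintro a ⟨x, hx, hxa⟩
    obtain ⟨a', ha'⟩ := h1 x hx
    have hEq : a ⊗ₖ (1 : Matrix (Fin e) (Fin e) F) =
        (a' : Matrix (Fin d) (Fin d) F) ⊗ₖ (1 : Matrix (Fin e) (Fin e) F) := by
      have := hxa.symm.trans ha'
      exact (Matrix.reindex idx.symm idx.symm).injective this
    have : a = (a' : Matrix (Fin d) (Fin d) F) := by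
      ext i j
      have := congrFun (congrFun hEq (i, ⟨0, he⟩)) (j, ⟨0, he⟩)
      simpa [Matrix.kroneckerMap_apply] using this
    rw [this]
    exact (Matrix.isUnit_iff_isUnit_det _).mp a'.isUnit
  have hgram : ∀ a ∈ W, ∃ k : F, (a ⊗ₖ (1 : Matrix (Fin e) (Fin e) F))ᵀ * Gᵀ *
      (a ⊗ₖ (1 : Matrix (Fin e) (Fin e) F)).map (fun x => x ^ q) = k • Gᵀ := by
    rintro a ⟨x, hx, hxa⟩
    obtain ⟨k, -, hk⟩ := hsemi x hx (a ⊗ₖ (1 : Matrix (Fin e) (Fin e) F)) hxa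
    refine ⟨k, ?_⟩
    have := congrArg Matrix.transpose hk
    rw [Matrix.transpose_mul, Matrix.transpose_mul, Matrix.transpose_smul] at this
    rw [← this, ← Matrix.mul_assoc]
    congr 1
  obtain ⟨G₁, G₂, hG12⟩ := kronecker_of_semiinvariant hF W h2 hWu Gᵀ hgram
  have hGk : G = G₁ᵀ ⊗ₖ G₂ᵀ := by
    rw [Matrix.kroneckerMap_transpose, ← hG12, Matrix.transpose_transpose]
  -- `G` is invertible
  have hGdet : IsUnit G.det := by
    have hc'u : IsUnit c'.det := by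
      have : c'.det * b'.det = 1 := by rw [← Matrix.det_mul, hcb', Matrix.det_one]
      exact IsUnit.of_mul_eq_one _ this
    have hcc : IsUnit (ctr q c').det := by
      have : (ctr q c').det * (ctr q b').det = 1 := by
        rw [← Matrix.det_mul, ← ctr_mul hF, hbc', ctr_one hF, Matrix.det_one]
      exact IsUnit.of_mul_eq_one _ this
    rw [hG, Matrix.det_mul]
    exact hcc.mul hc'u
  have hG0 : G₁ᵀ ⊗ₖ G₂ᵀ ≠ 0 := by
    intro h0
    rw [← hGk] at h0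
    rw [h0, Matrix.det_zero] at hGdet
    exact not_isUnit_zero hGdet
  -- hermitian rescaling
  have hherm : G₁ᵀ ⊗ₖ G₂ᵀ = ctr q G₁ᵀ ⊗ₖ ctr q G₂ᵀ := by
    rw [← ctr_kronecker, ← hGk, hGherm]
  obtain ⟨c, hc0, hcA, hcB⟩ := kronecker_eq_kronecker G₁ᵀ (ctr q G₁ᵀ) G₂ᵀ (ctr q G₂ᵀ) hherm hG0
  have hA0 : G₁ᵀ ≠ 0 := by
    intro h0
    apply hG0
    rw [h0]
    ext ⟨i, k⟩ ⟨j, l⟩
    simp [Matrix.kroneckerMap_apply]
  have hcc : c * c ^ q = 1 := by
    have h3 := congrArg (ctr q) hcA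
    rw [ctr_ctr hF, ctr_smul, hcA, smul_smul] at h3
    -- G₁ᵀ = (c^q * c) • G₁ᵀ
    obtain ⟨i, j, hij⟩ : ∃ i j, G₁ᵀ i j ≠ 0 := by
      by_contra hcon
      push Not at hcon
      exact hA0 (by ext i j; exact hcon i j)
    have h4 := congrFun (congrFun h3 i) j
    rw [Matrix.smul_apply, smul_eq_mul] at h4
    have h5 : (c ^ q * c - 1) * G₁ᵀ i j = 0 := by rw [sub_mul, one_mul, ← h4, sub_self]
    rcases mul_eq_zero.mp h5 with h6 | h6
    · rw [mul_comm]; exact sub_eq_zero.mp h6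
    · exact absurd h6 hij
  obtain ⟨t, ht0, ht⟩ := exists_hilbert hF c hcc
  set A₁ : Matrix (Fin d) (Fin d) F := t • G₁ᵀ with hA₁
  set A₂ : Matrix (Fin e) (Fin e) F := t⁻¹ • G₂ᵀ with hA₂
  have hA₁h : ctr q A₁ = A₁ := by
    rw [hA₁, ctr_smul, hcA, smul_smul]
    congr 1
    rw [mul_comm]; exact ht.symm
  have hA₂h : ctr q A₂ = A₂ := by
    have hB' : ctr q G₂ᵀ = c⁻¹ • G₂ᵀ := by
      conv_rhs => rw [hcB]
      rw [smul_smul, inv_mul_cancel₀ hc0, one_smul]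
    rw [hA₂, ctr_smul, hB', smul_smul]
    congr 1
    have : t⁻¹ ^ q * c⁻¹ = (c * t ^ q)⁻¹ := by rw [mul_inv, inv_pow, mul_comm]
    rw [this, ← ht]
  have hGA : G = A₁ ⊗ₖ A₂ := by
    rw [hGk, hA₁, hA₂]
    ext ⟨i, k⟩ ⟨j, l⟩
    simp only [Matrix.kroneckerMap_apply, Matrix.smul_apply, smul_eq_mul]
    field_simp
  have hdets : IsUnit A₁.det ∧ IsUnit A₂.det := by
    rw [hGA, Matrix.det_kronecker] at hGdet
    have h3 := isUnit_of_mul_isUnit_left hGdet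
    have h4 := isUnit_of_mul_isUnit_right hGdet
    rw [isUnit_pow_iff (by simp; omega)] at h3 h4
    exact ⟨h3, h4⟩
  obtain ⟨Y₁, hY₁, hY₁u⟩ := exists_st_mul_self_eq hF A₁ hA₁h hdets.1
  obtain ⟨Y₂, hY₂, hY₂u⟩ := exists_st_mul_self_eq hF A₂ hA₂h hdets.2
  change ctr q Y₁ * Y₁ = A₁ at hY₁
  change ctr q Y₂ * Y₂ = A₂ at hY₂
  -- the Kronecker product `Y` and its inverse
  set Y : Matrix (Fin d × Fin e) (Fin d × Fin e) F := Y₁ ⊗ₖ Y₂ with hY
  set Yi : Matrix (Fin d × Fin e) (Fin d × Fin e) F := Y₁⁻¹ ⊗ₖ Y₂⁻¹ with hYi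
  have hYYi : Y * Yi = 1 := by
    rw [hY, hYi, ← Matrix.mul_kronecker_mul, Matrix.mul_nonsing_inv _ hY₁u, Matrix.mul_nonsing_inv _ hY₂u,
      Matrix.one_kronecker_one]
  have hYiY : Yi * Y = 1 := by
    rw [hY, hYi, ← Matrix.mul_kronecker_mul, Matrix.nonsing_inv_mul _ hY₁u, Matrix.nonsing_inv_mul _ hY₂u,
      Matrix.one_kronecker_one]
  have hGY : G = ctr q Y * Y := by
    rw [hGA, hY, ctr_kronecker, ← Matrix.mul_kronecker_mul, hY₁, hY₂]
  -- the base change `P = B⁻¹ * ρ.symm Yi`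
  set Ŷ : GL (Fin n) F := ⟨ρ.symm Y, ρ.symm Yi, by rw [← map_mul, hYYi, map_one],
    by rw [← map_mul, hYiY, map_one]⟩ with hŶ
  refine ⟨idx, B⁻¹ * Ŷ⁻¹, ?_, ?_⟩
  · -- `P` is an isometry
    apply GU_le_similarityGroup
    rw [mem_GU_iff hF]
    have hP : ((B⁻¹ * Ŷ⁻¹ : GL (Fin n) F) : Matrix (Fin n) (Fin n) F) = C * ρ.symm Yi := by
      rw [Units.val_mul]
      rfl
    rw [hP]
    -- transport along ρ
    apply ρ.injective
    rw [map_mul, hρctr, map_mul, map_one, AlgEquiv.apply_symm_apply, ← hc', ctr_mul hF]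
    calc ctr q Yi * ctr q c' * (c' * Yi) = ctr q Yi * (ctr q c' * c') * Yi := by
          simp only [Matrix.mul_assoc]
      _ = ctr q Yi * (ctr q Y * Y) * Yi := by rw [← hG, hGY]
      _ = (ctr q Yi * ctr q Y) * (Y * Yi) := by simp only [Matrix.mul_assoc]
      _ = 1 := by rw [← ctr_mul hF, hYYi, ctr_one hF, Matrix.one_mul]
  · intro h hh
    obtain ⟨a, b, hab⟩ := kronecker_of_normalizes N d e idx B hNF h (hnrm h hh)
    have hY₁GL : IsUnit Y₁ := (Matrix.isUnit_iff_isUnit_det _).mpr hY₁u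
    have hY₂GL : IsUnit Y₂ := (Matrix.isUnit_iff_isUnit_det _).mpr hY₂u
    obtain ⟨y₁, hy₁⟩ := hY₁GL
    obtain ⟨y₂, hy₂⟩ := hY₂GL
    refine ⟨y₁ * a * y₁⁻¹, y₂ * b * y₂⁻¹, ?_⟩
    have hy₁i : ((y₁⁻¹ : GL (Fin d) F) : Matrix (Fin d) (Fin d) F) = Y₁⁻¹ := by
      rw [Matrix.coe_units_inv, hy₁]
    have hy₂i : ((y₂⁻¹ : GL (Fin e) F) : Matrix (Fin e) (Fin e) F) = Y₂⁻¹ := by
      rw [Matrix.coe_units_inv, hy₂]
    have hconj : ((B⁻¹ * Ŷ⁻¹)⁻¹ * h * (B⁻¹ * Ŷ⁻¹) : GL (Fin n) F) = Ŷ * (B * h * B⁻¹) * Ŷ⁻¹ := by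
      group
    rw [hconj, Units.val_mul, Units.val_mul, hab]
    show ρ.symm Y * ρ.symm ((a : Matrix (Fin d) (Fin d) F) ⊗ₖ (b : Matrix (Fin e) (Fin e) F)) * ρ.symm Yi =
      ρ.symm _
    rw [← map_mul, ← map_mul]
    congr 1
    rw [hY, hYi, ← Matrix.mul_kronecker_mul, ← Matrix.mul_kronecker_mul, Units.val_mul, Units.val_mul,
      Units.val_mul, Units.val_mul, hy₁, hy₂, hy₁i, hy₂i]

end Cfsg.Agent.Lib.Helper20.AschU
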