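import Mathlib
import Cfsg.Prelude.Def_GeometricClasses
import Cfsg.Agent.Lib.Helper99.AschDefs
import Cfsg.Agent.Lib.Helper20.AschU.Basic
import Cfsg.Agent.Lib.Helper20.AschU.Ctr
import Cfsg.Agent.Lib.Helper6.AschUU2Star
import Cfsg.Agent.Lib.Helper76.AschUU2SA
import Cfsg.Agent.Lib.Helper76.AschUU2TS
import Cfsg.Agent.Lib.Helper76.AschUU2Pair

/-!
# ASCHU-[U2]: a transitive system of minimal idempotents of a `ctr`-closed commutative algebra ⇒ class 2
-/

set_option autoImplicit false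

namespace Cfsg.Agent.Lib.Helper20.AschU

open Cfsg Cfsg.Geo Cfsg.Agent.Lib.Helper99.Asch
open scoped MatrixGroups Matrix Kronecker

variable {n : ℕ} {F : Type*} [Field F] [Fintype F] {q : ℕ}

/-- ASCHU-[U2]. -/
theorem ugeo_of_idempotents (hF : Fintype.card F = q ^ 2) (H : Subgroup (GL (Fin n) F))
    (hH : H ≤ GU n F q) (K : Subalgebra F (Matrix (Fin n) (Fin n) F))
    (hcomm : ∀ x ∈ K, ∀ y ∈ K, x * y = y * x) (hstar : ∀ x ∈ K, ctr q x ∈ K)
    (t : ℕ) (ε : Fin t → Matrix (Fin n) (Fin n) F) (ht : 2 ≤ t)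
    (hK : ∀ i, ε i ∈ K) (hne : ∀ i, ε i ≠ 0) (hid : ∀ i, ε i * ε i = ε i)
    (horth : ∀ i j, i ≠ j → ε i * ε j = 0) (hsum : ∑ i, ε i = 1)
    (hperm : ∀ h ∈ H, ∃ π : Equiv.Perm (Fin t), ∀ i,
      (h : Matrix (Fin n) (Fin n) F) * ε i * ((h⁻¹ : GL (Fin n) F) : Matrix (Fin n) (Fin n) F) = ε (π i))
    (htrans : ∀ i j, ∃ h ∈ H,
      (h : Matrix (Fin n) (Fin n) F) * ε i * ((h⁻¹ : GL (Fin n) F) : Matrix (Fin n) (Fin n) F) = ε j)
    (hmin : ∀ x ∈ K, x * x = x → ∀ i, ε i * x = 0 ∨ ε i * x = ε i) :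
    UGeo q H := by
  -- ε is injective
  have hinj : Function.Injective ε := by
    intro i j hij
    by_contra hne'
    have := horth i j hne'
    rw [← hij, hid] at this
    exact hne i this
  obtain ⟨s, hs, hsε⟩ := exists_star_of_idempotents hF K hcomm hstar t ε hK hne hid horth hsum hmin
  -- every permutation coming from `H` commutes with `s`
  have hcomm_s : ∀ h ∈ H, ∀ π : Equiv.Perm (Fin t), (∀ i,
      (h : Matrix (Fin n) (Fin n) F) * ε i * ((h⁻¹ : GL (Fin n) F) : Matrix (Fin n) (Fin n) F) = ε (π i)) →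
      ∀ i, π (s i) = s (π i) := by
    intro h hh π hπ i
    apply hinj
    rw [← hπ (s i), ← hsε i, ← ctr_conj_of_mem_GU hF h (hH hh), hπ i, hsε]
  by_cases hfix : ∃ i, s i = i
  · -- all fixed
    obtain ⟨i₀, hi₀⟩ := hfix
    have hall : ∀ j, s j = j := by
      intro j
      obtain ⟨h, hh, hj⟩ := htrans i₀ j
      obtain ⟨π, hπ⟩ := hperm h hh
      have hπj : π i₀ = j := hinj (by rw [← hπ i₀, hj])
      rw [← hπj, ← hcomm_s h hh π hπ i₀, hi₀]
    refine ugeo_of_selfadjoint_idempotents hF H hH t ht ε hne hid horth hsum ?_ hperm htrans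
    intro i
    rw [hsε, hall]
  · simp only [not_exists] at hfix
    rcases Nat.lt_or_ge 2 t with ht2 | ht2
    · -- pair up
      have hperm' : ∀ h ∈ H, ∃ π : Equiv.Perm (Fin t), (∀ i,
          (h : Matrix (Fin n) (Fin n) F) * ε i * ((h⁻¹ : GL (Fin n) F) : Matrix (Fin n) (Fin n) F) =
            ε (π i)) ∧ ∀ i, π (s i) = s (π i) := by
        intro h hh
        obtain ⟨π, hπ⟩ := hperm h hh
        exact ⟨π, hπ, hcomm_s h hh π hπ⟩
      obtain ⟨t', E, ht', hE, hEne, hEid, hEorth, hEsum, hEperm, hEtrans⟩ :=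
        exists_paired_idempotents H t ht2 ε hne hid horth hsum s hs hfix hperm' htrans
      refine ugeo_of_selfadjoint_idempotents hF H hH t' ht' E hEne hEid hEorth hEsum ?_ hEperm hEtrans
      intro k
      obtain ⟨i, hi⟩ := hE k
      rw [hi, ctr_add hF, hsε, hsε, hs, add_comm]
    · -- t = 2
      have ht2' : t = 2 := by omega
      subst ht2'
      have h01 : s 0 = 1 := by
        have := hfix 0
        omega
      refine ugeo_of_dual_idempotents hF H hH ε hne hid horth hsum ?_ hperm htrans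
      rw [hsε, h01]

end Cfsg.Agent.Lib.Helper20.AschU
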