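import Mathlib
import Cfsg.Prelude.Def_GeometricClasses
import Cfsg.Agent.Lib.Helper99.AschDefs
import Cfsg.Agent.Lib.Helper37.GUSimilar
import Cfsg.Agent.Lib.Helper20.AschU.Basic
import Cfsg.Agent.Lib.Helper20.AschU.Ctr

/-!
# ASCHU-[UD2], part a: the 2-dimensional unitary similarity group is `GL_2(q)·Z` in a suitable basis
-/

set_option autoImplicit false

namespace Cfsg.Agent.Lib.Helper20.AschUD2

open Cfsg Cfsg.Geo Cfsg.Agent.Lib.Helper99.Asch Cfsg.Agent.Lib.Helper20.AschU
open Cfsg.Agent.Lib.Helper5 Cfsg.Agent.Lib.Helper37.GUConj Cfsg.Agent.Lib.Helper37.GUSimilar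
open scoped MatrixGroups Matrix Kronecker

variable {F : Type*} [Field F] [Fintype F] {q : ℕ}

/-- Hilbert 90 for `F`, `|F| = q²`. -/
theorem exists_hilbert' (hF : Fintype.card F = q ^ 2) (c : F) (hc : c * c ^ q = 1) :
    ∃ t : F, t ≠ 0 ∧ t = c * t ^ q := by
  obtain ⟨a, ha⟩ := exists_sig_ne hF
  have hu : IsUnit (a - conjHom hF a) := by
    rw [isUnit_iff_ne_zero, sub_ne_zero]
    exact fun h => ha h.symm
  obtain ⟨r, hr, hr'⟩ := hilbert90 (conjHom hF) (conjHom_conjHom hF) a hu c hc
  exact ⟨r, hr.ne_zero, hr'⟩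

/-- a nonzero `η` with `η ^ q = -η`. -/
theorem exists_eta (hF : Fintype.card F = q ^ 2) : ∃ η : F, η ≠ 0 ∧ η ^ q = -η := by
  obtain ⟨a, ha⟩ := exists_sig_ne hF
  refine ⟨a - a ^ q, sub_ne_zero.mpr (fun h => ha h.symm), ?_⟩
  rw [sub_pow_q hF, pow_q_pow_q hF]
  ring

/-- the standard alternating matrix -/
def om : Matrix (Fin 2) (Fin 2) F := !![0, 1; -1, 0]

/-- `η • om` is hermitian. -/
theorem ctr_eta_om (hF : Fintype.card F = q ^ 2) (η : F) (hη : η ^ q = -η) :
    ctr q (η • (om : Matrix (Fin 2) (Fin 2) F)) = η • om := by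
  have hq0 := q_ne_zero hF
  ext i j
  fin_cases i <;> fin_cases j <;>
    simp [ctr_apply, om, zero_pow hq0, neg_pow_q hF, hη]

omit [Fintype F] in
theorem det_eta_om (η : F) : (η • (om : Matrix (Fin 2) (Fin 2) F)).det = η ^ 2 := by
  simp [om, Matrix.det_fin_two]
  ring

/-- The key computation: a similarity of the hermitian form `η • om` is, up to a scalar, fixed by
the Frobenius. -/
theorem rational_of_sim (hF : Fintype.card F = q ^ 2) (η : F) (hη0 : η ≠ 0)
    (a : Matrix (Fin 2) (Fin 2) F) (c : F) (hc : c ≠ 0)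
    (h : ctr q a * (η • (om : Matrix (Fin 2) (Fin 2) F)) * a = c • (η • om)) :
    ∃ t : F, t ≠ 0 ∧ ∀ i j, ((t • a) i j) ^ q = (t • a) i j := by
  -- the four entry equations
  have e := fun i j => congrFun (congrFun h i) j
  have e00 := e 0 0
  have e01 := e 0 1
  have e10 := e 1 0
  have e11 := e 1 1
  simp only [Matrix.mul_apply, Fin.sum_univ_two, ctr_apply, Matrix.smul_apply, om, smul_eq_mul,
    Matrix.of_apply, Matrix.cons_val', Matrix.cons_val_zero, Matrix.cons_val_one,
    Matrix.cons_val_fin_one] at e00 e01 e10 e11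
  set a00 := a 0 0
  set a01 := a 0 1
  set a10 := a 1 0
  set a11 := a 1 1
  obtain ⟨δ, hδ⟩ : ∃ δ : F, δ = a00 * a11 - a01 * a10 := ⟨_, rfl⟩
  have hη' : η ≠ 0 := hη0
  -- divide by η
  have E1 : a00 ^ q * a10 - a10 ^ q * a00 = 0 := by
    have : η * (a00 ^ q * a10 - a10 ^ q * a00) = 0 := by linear_combination e00
    exact (mul_eq_zero.mp this).resolve_left hη'
  have E2 : a00 ^ q * a11 - a10 ^ q * a01 - c = 0 := by
    have : η * (a00 ^ q * a11 - a10 ^ q * a01 - c) = 0 := by linear_combination e01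
    exact (mul_eq_zero.mp this).resolve_left hη'
  have E3 : a01 ^ q * a10 - a11 ^ q * a00 + c = 0 := by
    have : η * (a01 ^ q * a10 - a11 ^ q * a00 + c) = 0 := by linear_combination e10
    exact (mul_eq_zero.mp this).resolve_left hη'
  have E4 : a01 ^ q * a11 - a11 ^ q * a01 = 0 := by
    have : η * (a01 ^ q * a11 - a11 ^ q * a01) = 0 := by linear_combination e11
    exact (mul_eq_zero.mp this).resolve_left hη'
  have S00 : δ * a00 ^ q = c * a00 := by rw [hδ]; linear_combination a00 * E2 - a01 * E1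
  have S10 : δ * a10 ^ q = c * a10 := by rw [hδ]; linear_combination a10 * E2 - a11 * E1
  have S01 : δ * a01 ^ q = c * a01 := by rw [hδ]; linear_combination a00 * E4 - a01 * E3
  have S11 : δ * a11 ^ q = c * a11 := by rw [hδ]; linear_combination a10 * E4 - a11 * E3
  have hδ0 : δ ≠ 0 := by
    intro h0
    rw [h0, zero_mul] at S00 S10 S01 S11
    have z00 : a00 = 0 := (mul_eq_zero.mp S00.symm).resolve_left hc
    have z10 : a10 = 0 := (mul_eq_zero.mp S10.symm).resolve_left hc
    have z01 : a01 = 0 := (mul_eq_zero.mp S01.symm).resolve_left hc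
    rw [z00, z10, z01] at E2
    have hq0 := q_ne_zero hF
    simp [zero_pow hq0] at E2
    exact hc E2
  set l := c / δ with hl
  have hS : ∀ i j, (a i j) ^ q = l * a i j := by
    intro i j
    have key : ∀ x : F, δ * x ^ q = c * x → x ^ q = l * x := by
      intro x hx
      rw [hl, div_mul_eq_mul_div, eq_div_iff hδ0, mul_comm]
      exact hx
    fin_cases i <;> fin_cases j
    · exact key _ S00
    · exact key _ S01
    · exact key _ S10
    · exact key _ S11
  -- `l * l ^ q = 1`
  have hane : ∃ i j, a i j ≠ 0 := by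
    by_contra hcon
    push Not at hcon
    apply hδ0
    rw [hδ]
    show a 0 0 * a 1 1 - a 0 1 * a 1 0 = 0
    rw [hcon 0 0, hcon 0 1]
    ring
  obtain ⟨i, j, hij⟩ := hane
  have hll : l * l ^ q = 1 := by
    have h1 : (a i j ^ q) ^ q = a i j := pow_q_pow_q hF _
    rw [hS, mul_pow, hS] at h1
    have : (l ^ q * l - 1) * a i j = 0 := by linear_combination h1
    rcases mul_eq_zero.mp this with h2 | h2
    · linear_combination h2
    · exact absurd h2 hij
  obtain ⟨t, ht0, ht⟩ := exists_hilbert' hF l hll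
  refine ⟨t, ht0, fun i j => ?_⟩
  rw [Matrix.smul_apply, smul_eq_mul, mul_pow, hS]
  linear_combination (-(a i j)) * ht

end Cfsg.Agent.Lib.Helper20.AschUD2
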