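import Mathlib
import Cfsg.Prelude.Def_GeometricClasses
import Cfsg.Agent.Lib.Helper99.AschDefs
import Cfsg.Agent.Lib.Helper37.GUSimilar
import Cfsg.Agent.Lib.Helper5.UnitarySU2b
import Cfsg.Agent.Lib.Helper44.SubF1
import Cfsg.Agent.Lib.Helper20.AschU.Basic
import Cfsg.Agent.Lib.Helper20.AschU.Ctr
import Cfsg.Agent.Lib.Helper20.AschU.UD2a
import Cfsg.Agent.Lib.Helper11.AschUKronEq

/-!
# ASCHU-[UD2]: an orthonormal tensor decomposition `2 ⊗ 2` puts `H` in a class-5 member over `F_q`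
-/

set_option autoImplicit false

namespace Cfsg.Agent.Lib.Helper20.AschUD2

open Cfsg Cfsg.Geo Cfsg.Agent.Lib.Helper99.Asch Cfsg.Agent.Lib.Helper20.AschU
open Cfsg.Agent.Lib.Helper5 Cfsg.Agent.Lib.Helper37.GUConj Cfsg.Agent.Lib.Helper37.GUSimilar
open Cfsg.Agent.Lib.Helper44.SubF
open scoped MatrixGroups Matrix Kronecker

variable {n : ℕ} {F : Type*} [Field F] [Fintype F] {q : ℕ}

/-- conjugating a similarity of the standard form by `Y` gives a similarity of `ctr Y * Y`. -/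
theorem sim_conj (hF : Fintype.card F = q ^ 2) {κ : Type*} [Fintype κ] [DecidableEq κ]
    (Y Yi a : Matrix κ κ F) (m : F) (h1 : Y * Yi = 1) (ha : ctr q a * a = m • 1) :
    ctr q (Yi * a * Y) * (ctr q Y * Y) * (Yi * a * Y) = m • (ctr q Y * Y) := by
  have h3 : ctr q Yi * ctr q Y = 1 := by rw [← ctr_mul hF, h1, ctr_one hF]
  rw [ctr_mul hF, ctr_mul hF]
  calc ctr q Y * (ctr q a * ctr q Yi) * (ctr q Y * Y) * (Yi * a * Y)
      = ctr q Y * ctr q a * (ctr q Yi * ctr q Y) * (Y * Yi) * a * Y := by simp only [Matrix.mul_assoc]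
    _ = ctr q Y * (ctr q a * a) * Y := by
        rw [h3, h1, Matrix.mul_one, Matrix.mul_one]; simp only [Matrix.mul_assoc]
    _ = m • (ctr q Y * Y) := by
        rw [ha, Matrix.mul_smul, Matrix.mul_one, Matrix.smul_mul]

omit [Fintype F] in
theorem om_pow (hq0 : q ≠ 0) (hodd : ((-1 : F)) ^ q = -1) (a b : Fin 2) :
    ((om : Matrix (Fin 2) (Fin 2) F) a b) ^ q = om a b := by
  fin_cases a <;> fin_cases b <;> simp [om, zero_pow hq0, hodd]

end Cfsg.Agent.Lib.Helper20.AschUD2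

namespace Cfsg.Agent.Lib.Helper20.AschU

open Cfsg Cfsg.Geo Cfsg.Agent.Lib.Helper99.Asch Cfsg.Agent.Lib.Helper20.AschUD2
open Cfsg.Agent.Lib.Helper5 Cfsg.Agent.Lib.Helper37.GUConj Cfsg.Agent.Lib.Helper37.GUSimilar
open Cfsg.Agent.Lib.Helper44.SubF
open scoped MatrixGroups Matrix Kronecker

variable {n : ℕ} {F : Type*} [Field F] [Fintype F] {q : ℕ}

/-- ASCHU-[UD2]. -/
theorem ugeo_of_utensorStd_two (hF : Fintype.card F = q ^ 2) (H : Subgroup (GL (Fin n) F))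
    (hH : H ≤ GU n F q) (h : UTensorStd q H 2 2) : UGeo q H := by
  classical
  obtain ⟨idx, P, hP, hHP⟩ := h
  have hn4 : n = 4 := by simpa using Fintype.card_congr idx
  have hn0 : 0 < n := by omega
  have hq0 := q_ne_zero hF
  set ρ := Matrix.reindexAlgEquiv F F idx with hρ
  obtain ⟨η, hη0, hη⟩ := exists_eta hF
  set Ω : Matrix (Fin 2) (Fin 2) F := η • om with hΩ
  have hΩh : ctr q Ω = Ω := ctr_eta_om hF η hη
  have hΩd : IsUnit Ω.det := by rw [hΩ, det_eta_om]; exact (pow_ne_zero 2 hη0).isUnit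
  obtain ⟨Y, hY, hYu⟩ := exists_st_mul_self_eq hF Ω hΩh hΩd
  change ctr q Y * Y = Ω at hY
  have hYY : Y * Y⁻¹ = 1 := Matrix.mul_nonsing_inv _ hYu
  have hYY' : Y⁻¹ * Y = 1 := Matrix.nonsing_inv_mul _ hYu
  set YY : Matrix (Fin 2 × Fin 2) (Fin 2 × Fin 2) F := Y ⊗ₖ Y with hYYd
  set YYi : Matrix (Fin 2 × Fin 2) (Fin 2 × Fin 2) F := Y⁻¹ ⊗ₖ Y⁻¹ with hYYid
  have hk1 : YY * YYi = 1 := by
    rw [hYYd, hYYid, ← Matrix.mul_kronecker_mul, hYY, Matrix.one_kronecker_one]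
  have hk2 : YYi * YY = 1 := by
    rw [hYYd, hYYid, ← Matrix.mul_kronecker_mul, hYY', Matrix.one_kronecker_one]
  set Ŷ : GL (Fin n) F := ⟨ρ.symm YY, ρ.symm YYi, by rw [← map_mul, hk1, map_one],
    by rw [← map_mul, hk2, map_one]⟩ with hŶ
  set P' : GL (Fin n) F := P * Ŷ with hP'
  set F₀ : Subfield F := fixedSubfield hF with hF₀
  have hmemF₀ : ∀ x : F, x ∈ F₀ ↔ x ^ q = x := fun x => mem_fixedSubfield hF x
  obtain ⟨c₀, hc₀0, hc₀⟩ := (mem_similarityGroup_iff hF P).mp hP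
  have hc₀q : c₀ ^ q = c₀ := multiplier_pow_q hF hn0 _ _ hc₀
  have hρctr : ∀ M : Matrix (Fin 2 × Fin 2) (Fin 2 × Fin 2) F, ctr q (ρ.symm M) = ρ.symm (ctr q M) := by
    intro M
    exact ctr_reindex idx.symm M
  have hP'val : (P' : Matrix (Fin n) (Fin n) F) = (P : Matrix (Fin n) (Fin n) F) * ρ.symm YY := by
    rw [hP', Units.val_mul]
  -- the Gram matrix of `P'`
  have hΓ : ctr q (P' : Matrix (Fin n) (Fin n) F) * (P' : Matrix (Fin n) (Fin n) F) =
      c₀ • ρ.symm (Ω ⊗ₖ Ω) := by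
    rw [hP'val, ctr_mul hF, hρctr]
    calc ρ.symm (ctr q YY) * ctr q (P : Matrix (Fin n) (Fin n) F) *
          ((P : Matrix (Fin n) (Fin n) F) * ρ.symm YY)
        = ρ.symm (ctr q YY) * (ctr q (P : Matrix (Fin n) (Fin n) F) * (P : Matrix (Fin n) (Fin n) F)) *
            ρ.symm YY := by simp only [Matrix.mul_assoc]
      _ = c₀ • (ρ.symm (ctr q YY) * ρ.symm YY) := by
          rw [hc₀, Matrix.mul_smul, Matrix.mul_one, Matrix.smul_mul]
      _ = c₀ • ρ.symm (Ω ⊗ₖ Ω) := by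
          rw [← map_mul, hYYd, ctr_kronecker, ← Matrix.mul_kronecker_mul, hY]
  have hm1 : ((-1 : F)) ^ q = -1 := by rw [neg_pow_q hF, one_pow]
  have hΩΩ : ∀ a b c d : Fin 2, (Ω a b * Ω c d) ∈ F₀ := by
    intro a b c d
    rw [hmemF₀, hΩ, Matrix.smul_apply, Matrix.smul_apply, smul_eq_mul, smul_eq_mul, mul_pow, mul_pow,
      mul_pow, om_pow hq0 hm1, om_pow hq0 hm1, hη]
    ring
  have hΓrat : RatMat F₀ (ctr q (P' : Matrix (Fin n) (Fin n) F) * (P' : Matrix (Fin n) (Fin n) F)) := by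
    intro i j
    rw [hΓ, Matrix.smul_apply, smul_eq_mul]
    refine F₀.mul_mem ((hmemF₀ _).mpr hc₀q) ?_
    show (Ω ⊗ₖ Ω) (idx i) (idx j) ∈ F₀
    rw [Matrix.kroneckerMap_apply]
    exact hΩΩ _ _ _ _
  -- value of the form on rational points
  have hval : ∀ u v : Fin n → F, (∀ i, v i ∈ F₀) →
      hermForm n F q ((P' : Matrix (Fin n) (Fin n) F) *ᵥ u) ((P' : Matrix (Fin n) (Fin n) F) *ᵥ v) =
        ∑ i, u i * ((ctr q (P' : Matrix (Fin n) (Fin n) F) * (P' : Matrix (Fin n) (Fin n) F)) *ᵥ v) i := by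
    intro u v hv
    rw [hermForm_mulVec_left hF, Matrix.mulVec_mulVec]
    unfold hermForm
    refine Finset.sum_congr rfl (fun i _ => ?_)
    congr 1
    rw [← hmemF₀]
    exact hΓrat.mulVec hv i
  have hrat : IsFormRationalStructure (hermForm n F q) F₀ 1 P' := by
    intro u v hu hv
    rw [one_mul, hval u v hv]
    exact F₀.sum_mem (fun i _ => F₀.mul_mem (hu i) (hΓrat.mulVec hv i))
  have hcard : Fintype.card F = Nat.card F₀ ^ 2 := by rw [hF₀, card_fixedSubfield hF, hF]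
  -- `H` lies in the subfield group
  have hsub : H ≤ subfieldSubgroup F₀ P' := by
    intro h hh
    obtain ⟨a, b, hab⟩ := hHP h hh
    change ((P⁻¹ * h * P : GL (Fin n) F) : Matrix (Fin n) (Fin n) F) =
      ρ.symm ((a : Matrix (Fin 2) (Fin 2) F) ⊗ₖ (b : Matrix (Fin 2) (Fin 2) F)) at hab
    -- `P⁻¹ h P` is a similarity
    have hsim : P⁻¹ * h * P ∈ similarityGroup (hermForm n F q) :=
      Subgroup.mul_mem _ (Subgroup.mul_mem _ (Subgroup.inv_mem _ hP) (GU_le_similarityGroup (hH hh))) hP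
    obtain ⟨k, hk0, hk⟩ := (mem_similarityGroup_iff hF _).mp hsim
    rw [hab, hρctr, ← map_mul, ctr_kronecker, ← Matrix.mul_kronecker_mul] at hk
    have hk' : (ctr q (a : Matrix (Fin 2) (Fin 2) F) * (a : Matrix (Fin 2) (Fin 2) F)) ⊗ₖ
        (ctr q (b : Matrix (Fin 2) (Fin 2) F) * (b : Matrix (Fin 2) (Fin 2) F)) = k • 1 := by
      have := congrArg ρ hk
      rwa [AlgEquiv.apply_symm_apply, map_smul, map_one] at this
    have hkron : (1 : Matrix (Fin 2) (Fin 2) F) ⊗ₖ (1 : Matrix (Fin 2) (Fin 2) F) =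
        (k⁻¹ • (ctr q (a : Matrix (Fin 2) (Fin 2) F) * (a : Matrix (Fin 2) (Fin 2) F))) ⊗ₖ
          (ctr q (b : Matrix (Fin 2) (Fin 2) F) * (b : Matrix (Fin 2) (Fin 2) F)) := by
      rw [Matrix.smul_kronecker, hk', smul_smul, inv_mul_cancel₀ hk0, one_smul, Matrix.one_kronecker_one]
    have h110 : (1 : Matrix (Fin 2) (Fin 2) F) ⊗ₖ (1 : Matrix (Fin 2) (Fin 2) F) ≠ 0 := by
      rw [Matrix.one_kronecker_one]
      exact one_ne_zero
    obtain ⟨c, hc0, hcA, hcB⟩ := kronecker_eq_kronecker _ _ _ _ hkron h110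
    have haa : ctr q (a : Matrix (Fin 2) (Fin 2) F) * (a : Matrix (Fin 2) (Fin 2) F) = (k * c) • 1 := by
      have := congrArg (fun M => k • M) hcA
      simpa [smul_smul, mul_inv_cancel₀ hk0] using this
    have hbb : ctr q (b : Matrix (Fin 2) (Fin 2) F) * (b : Matrix (Fin 2) (Fin 2) F) = c⁻¹ • 1 := by
      have := congrArg (fun M => c⁻¹ • M) hcB
      simpa [smul_smul, inv_mul_cancel₀ hc0] using this.symm
    have hA := sim_conj hF Y Y⁻¹ (a : Matrix (Fin 2) (Fin 2) F) (k * c) hYY haa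
    have hB := sim_conj hF Y Y⁻¹ (b : Matrix (Fin 2) (Fin 2) F) c⁻¹ hYY hbb
    rw [hY] at hA hB
    obtain ⟨ta, hta0, hta⟩ := rational_of_sim hF η hη0 _ (k * c) (mul_ne_zero hk0 hc0) hA
    obtain ⟨tb, htb0, htb⟩ := rational_of_sim hF η hη0 _ c⁻¹ (inv_ne_zero hc0) hB
    -- the conjugate
    have hg : ((P'⁻¹ * h * P' : GL (Fin n) F) : Matrix (Fin n) (Fin n) F) =
        ρ.symm ((Y⁻¹ * (a : Matrix (Fin 2) (Fin 2) F) * Y) ⊗ₖ (Y⁻¹ * (b : Matrix (Fin 2) (Fin 2) F) * Y)) := by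
      have : P'⁻¹ * h * P' = Ŷ⁻¹ * (P⁻¹ * h * P) * Ŷ := by rw [hP']; group
      rw [this, Units.val_mul, Units.val_mul, hab]
      show ρ.symm YYi * ρ.symm _ * ρ.symm YY = _
      rw [← map_mul, ← map_mul, hYYd, hYYid, ← Matrix.mul_kronecker_mul, ← Matrix.mul_kronecker_mul]
    have hmem : P'⁻¹ * h * P' ∈ NGrp F₀ := by
      rw [mem_NGrp_iff]
      refine ⟨Units.mk0 (ta * tb) (mul_ne_zero hta0 htb0), ?_⟩
      intro i j
      rw [hg, Units.val_mk0, Matrix.smul_apply, smul_eq_mul]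
      show ta * tb * ((Y⁻¹ * (a : Matrix (Fin 2) (Fin 2) F) * Y) ⊗ₖ
        (Y⁻¹ * (b : Matrix (Fin 2) (Fin 2) F) * Y)) (idx i) (idx j) ∈ F₀
      rw [Matrix.kroneckerMap_apply]
      have e1 := hta (idx i).1 (idx j).1
      have e2 := htb (idx i).2 (idx j).2
      rw [Matrix.smul_apply, smul_eq_mul] at e1 e2
      have : ta * tb * ((Y⁻¹ * (a : Matrix (Fin 2) (Fin 2) F) * Y) (idx i).1 (idx j).1 *
          (Y⁻¹ * (b : Matrix (Fin 2) (Fin 2) F) * Y) (idx i).2 (idx j).2) =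
          (ta * (Y⁻¹ * (a : Matrix (Fin 2) (Fin 2) F) * Y) (idx i).1 (idx j).1) *
          (tb * (Y⁻¹ * (b : Matrix (Fin 2) (Fin 2) F) * Y) (idx i).2 (idx j).2) := by ring
      rw [this]
      exact F₀.mul_mem ((hmemF₀ _).mpr e1) ((hmemF₀ _).mpr e2)
    refine ⟨P'⁻¹ * h * P', hmem, ?_⟩
    show P' * (P'⁻¹ * h * P') * P'⁻¹ = h
    group
  rcases Nat.even_or_odd q with hq | hq
  · -- characteristic 2
    have h2 : (2 : F) = 0 := by
      obtain ⟨p, k, hp, hchar, hqk⟩ := exists_prime_pow_eq hF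
      have hp2 : p = 2 := by
        have : 2 ∣ p ^ k := by rw [← hqk]; exact hq.two_dvd
        exact ((Nat.prime_dvd_prime_iff_eq Nat.prime_two hp).mp (Nat.Prime.dvd_of_dvd_pow Nat.prime_two this)).symm
      subst hp2
      exact_mod_cast (CharP.cast_eq_zero F 2)
    refine ⟨subfieldSubgroup F₀ P' ⊓ GU n F q, Or.inl ?_, le_inf hsub hH⟩
    right; right; right; right; right; right; left
    refine ⟨F₀, P', 1, ⟨2, by omega⟩, hcard, one_ne_zero, ?_, hrat, ?_, rfl⟩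
    · rw [one_pow]; linear_combination h2
    · intro u hu
      rw [hval u u hu, hΓ]
      -- expand over `Fin 2 × Fin 2`
      have hsum : ∀ g : Fin n → F, ∑ i, g i = ∑ p : Fin 2 × Fin 2, g (idx.symm p) := by
        intro g
        exact (Equiv.sum_comp idx.symm g).symm
      simp only [Matrix.mulVec, dotProduct, Matrix.smul_apply, smul_eq_mul]
      rw [hsum]
      simp only [hsum (fun j => _)]
      have hent : ∀ p p' : Fin 2 × Fin 2, (ρ.symm (Ω ⊗ₖ Ω)) (idx.symm p) (idx.symm p') =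
          Ω p.1 p'.1 * Ω p.2 p'.2 := by
        intro p p'
        show (Ω ⊗ₖ Ω) (idx (idx.symm p)) (idx (idx.symm p')) = _
        rw [Equiv.apply_symm_apply, Equiv.apply_symm_apply, Matrix.kroneckerMap_apply]
      simp only [hent, Fintype.sum_prod_type, Fin.sum_univ_two]
      simp only [hΩ, Matrix.smul_apply, smul_eq_mul, om,
        Matrix.of_apply, Matrix.cons_val', Matrix.cons_val_zero, Matrix.cons_val_one,
        Matrix.cons_val_fin_one]
      linear_combination (c₀ * η ^ 2 * (u (idx.symm (0, 0)) * u (idx.symm (1, 1)) -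
        u (idx.symm (0, 1)) * u (idx.symm (1, 0)))) * h2
  · refine ⟨subfieldSubgroup F₀ P' ⊓ GU n F q, Or.inl ?_, le_inf hsub hH⟩
    right; right; right; right; right; left
    exact ⟨F₀, P', hq, hcard, hrat, rfl⟩

end Cfsg.Agent.Lib.Helper20.AschU
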