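import Mathlib
import Cfsg.Prelude.Def_GeometricClasses
import Cfsg.Agent.Lib.Helper99.AschDefs
import Cfsg.Agent.Lib.Helper99.AschUtil3
import Cfsg.Agent.Lib.Helper66.AschSS
import Cfsg.Agent.Lib.Helper20.AschU.Basic
import Cfsg.Agent.Lib.Helper20.AschU.Ctr
import Cfsg.Agent.Lib.Helper20.AschU.U2
import Cfsg.Agent.Lib.Helper20.AschU.KStar
import Cfsg.Agent.Lib.Helper51.AschNF
import Cfsg.Agent.Lib.Helper30.AschURed
import Cfsg.Agent.Lib.Helper13.AschUOrbit
import Cfsg.Agent.Lib.Helper30.AschUU3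
import Cfsg.Agent.Lib.Helper20.AschU.Isot
import Cfsg.Agent.Lib.Helper20.AschU.Tens
import Cfsg.Agent.Lib.Helper21.AschUU4Exact
import Cfsg.Agent.Lib.Helper20.AschU.UD2

/-!
# ASCHU-[PART1]: the form-aware Clifford analysis for an irreducible `H ≤ GU_n(q)`
-/

set_option autoImplicit false

namespace Cfsg.Agent.Lib.Helper20.AschU

open Cfsg Cfsg.Geo Cfsg.Agent.Lib.Helper99.Asch Cfsg.Agent.Lib.Helper99.AschUtil
open scoped MatrixGroups Matrix Kronecker

variable {n : ℕ} {F : Type*} [Field F] [Fintype F] {q : ℕ}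

omit [Fintype F] in
theorem commutantCenter_comm (N : Subgroup (GL (Fin n) F)) :
    ∀ x ∈ commutantCenter N, ∀ y ∈ commutantCenter N, x * y = y * x := by
  intro x hx y hy
  have h1 : x ∈ Subalgebra.centralizer F (commutant N : Set (Matrix (Fin n) (Fin n) F)) := hx.2
  rw [Subalgebra.mem_centralizer_iff] at h1
  exact (h1 y hy.1).symm

/-- ASCHU-[PART1]. -/
theorem partI_unitary (hF : Fintype.card F = q ^ 2) (hn : 3 ≤ n) (H : Subgroup (GL (Fin n) F))
    (hH : H ≤ GU n F q) (hirr : ActsIrreducibly (matrixSet H)) :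
    UGeo q H ∨ (q = 2 ∧ UTensorStd q H 3 3) ∨ NAIz H := by
  by_cases hgeo : UGeo q H
  · exact Or.inl hgeo
  by_cases h33 : q = 2 ∧ UTensorStd q H 3 3
  · exact Or.inr (Or.inl h33)
  refine Or.inr (Or.inr ?_)
  intro N hNle hnrm
  have hNsim : N ≤ similarityGroup (hermForm n F q) :=
    hNle.trans (sup_le (hH.trans GU_le_similarityGroup) (scalars_le_similarityGroup hF))
  have hcomm := commutantCenter_comm N
  have hnorm := normalizes_commutantCenter H N hnrm
  have hstar := commutantCenter_ctr_mem hF N hNsim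
  have hred := eq_zero_of_mul_self_eq_zero H hirr (commutantCenter N) hcomm hnorm
  rcases field_or_idempotents H hirr (commutantCenter N) hcomm hnorm hred with
    hfield | ⟨t, ε, ht, hK, hne, hid, horth, hsum, hperm, htrans, hmin⟩
  swap
  · exact absurd (ugeo_of_idempotents hF H hH (commutantCenter N) hcomm hstar t ε ht hK hne hid horth
      hsum hperm htrans hmin) hgeo
  by_cases hbig : ∃ x ∈ commutantCenter N, ∀ c : F, x ≠ c • (1 : Matrix (Fin n) (Fin n) F)
  · exact absurd (ugeo_of_normalized_field hF H hH (commutantCenter N) hcomm hfield hbig hnorm hstar) hgeo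
  have hsc : ∀ x ∈ commutantCenter N, ∃ c : F, x = c • (1 : Matrix (Fin n) (Fin n) F) := by
    intro x hx
    by_contra hcon
    exact hbig ⟨x, hx, fun c hc => hcon ⟨c, hc⟩⟩
  have hss := semisimple_of_normalized H N hirr hnrm
  have hiso := isotypic_of_commutantCenter_scalar H N hirr hnrm hsc
  obtain ⟨d, e, idx, B, hNF⟩ := tensorNF_of_isotypic (by omega) N hss hiso hsc
  have hT := utensorStd_of_tensorNF hF (by omega) H N hH hNsim hnrm d e idx B hNF
  have hcard : n = d * e := by
    have := Fintype.card_congr idx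
    simpa using this
  rcases Nat.lt_or_ge d 2 with hd | hd
  · -- d ≤ 1
    interval_cases d
    · omega
    · exact Or.inl (scalar_of_tensorNF_one N e idx B hNF)
  rcases Nat.lt_or_ge e 2 with he | he
  · interval_cases e
    · omega
    · exact Or.inr (absIrred_of_tensorNF_one N d idx B hNF)
  exfalso
  by_cases hde : d = e
  · subst hde
    rcases Nat.lt_or_ge d 3 with hd3 | hd3
    · have : d = 2 := by omega
      subst this
      exact hgeo (ugeo_of_utensorStd_two hF H hH hT)
    · by_cases hqd : q = 2 ∧ d = 3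
      · obtain ⟨hq2, hd3'⟩ := hqd
        subst hd3'
        exact h33 ⟨hq2, hT⟩
      · exact hgeo (ugeo_of_utensorStd_eq hF H hH d hd3 hqd hT)
  · exact hgeo (ugeo_of_utensorStd_ne hF H hH d e hd he hde hT)

end Cfsg.Agent.Lib.Helper20.AschU
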